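import Groth.Prelude.Def_WeakSerre
import Groth.Agent.Lib.CohDer19.Embed
import Groth.Agent.Lib.CohDer19.InjAmp
import Mathlib.Algebra.Homology.DerivedCategory.Fractions
import Mathlib.CategoryTheory.Adjunction.FullyFaithful

/-!
# `D(A) ⥤ D_A(C)` is an equivalence when complexes of injectives have qis reflections
-/

set_option autoImplicit false
set_option maxHeartbeats 400000
set_option linter.style.haveILetI false
set_option linter.unusedSectionVars false

universe w w' v u

open CategoryTheory CategoryTheory.Limits HomologicalComplex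

namespace GrothLib.TorSh20

variable {C : Type u} [Category.{v} C] [Abelian C] (P : ObjectProperty C) [WSerre.IsWeakSerre P]
  [P.ι.Additive] [PreservesFiniteLimits P.ι] [PreservesFiniteColimits P.ι]
  (T : C ⥤ P.FullSubcategory) [T.Additive] (adj : P.ι ⊣ T)

local notation "Mι" => P.ι.mapHomologicalComplex (ComplexShape.up ℤ)
local notation "MT" => T.mapHomologicalComplex (ComplexShape.up ℤ)

/-- The counit on a complex. -/
noncomputable def cxε (I : CochainComplex C ℤ) : (Mι).obj ((MT).obj I) ⟶ I where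
  f i := adj.counit.app (I.X i)
  comm' i j _ := (adj.counit.naturality (I.d i j)).symm

/-- The adjoint of a chain map. -/
noncomputable def cxAdj {M : CochainComplex P.FullSubcategory ℤ} {I : CochainComplex C ℤ}
    (u : (Mι).obj M ⟶ I) : M ⟶ (MT).obj I where
  f i := adj.homEquiv _ _ (u.f i)
  comm' i j h := by
    refine ((adj.homEquiv_naturality_right (u.f i) (I.d i j)).symm.trans ?_).trans
      (adj.homEquiv_naturality_left (M.d i j) (u.f j))
    exact congrArg _ (u.comm' i j h)

theorem cxAdj_ε {M : CochainComplex P.FullSubcategory ℤ} {I : CochainComplex C ℤ}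
    (u : (Mι).obj M ⟶ I) : (Mι).map (cxAdj P T adj u) ≫ cxε P T adj I = u :=
  HomologicalComplex.Hom.ext (funext fun i =>
    (adj.homEquiv_counit _ _ _).symm.trans ((adj.homEquiv _ _).symm_apply_apply (u.f i)))

/-- The adjoint of a null homotopic map is null homotopic. -/
theorem nonempty_homotopy_cxAdj {M : CochainComplex P.FullSubcategory ℤ} {I : CochainComplex C ℤ}
    (u : (Mι).obj M ⟶ I) (h : Homotopy u 0) : Nonempty (Homotopy (cxAdj P T adj u) 0) := by
  let e : M ⟶ (MT).obj ((Mι).obj M) :=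
    { f := fun i => adj.unit.app (M.X i)
      comm' := fun i j _ => (adj.unit.naturality (M.d i j)).symm }
  have he : cxAdj P T adj u = e ≫ (MT).map u :=
    HomologicalComplex.Hom.ext (funext fun i => adj.homEquiv_unit _ _ _)
  exact ⟨(Homotopy.ofEq he).trans (((T.mapHomotopy h).compLeft e).trans
    (Homotopy.ofEq (by rw [Functor.map_zero, comp_zero])))⟩

variable (hT : ∀ I : CochainComplex C ℤ, I.IsKInjective → (∀ i, Injective (I.X i)) →
    (∀ i, P (I.homology i)) → QuasiIso (cxε P T adj I))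

omit [T.Additive] in
theorem nonempty_homologyIso (M : CochainComplex P.FullSubcategory ℤ) (i : ℤ) :
    Nonempty (P.ι.obj (M.homology i) ≅ ((Mι).obj M).homology i) := by
  haveI : P.ι.PreservesHomology := Functor.preservesHomologyOfExact _
  exact ⟨((M.sc i).mapHomologyIso P.ι).symm⟩

omit [T.Additive] in
theorem prop_homology (M : CochainComplex P.FullSubcategory ℤ) (i : ℤ) : P (((Mι).obj M).homology i) := by
  obtain ⟨e⟩ := nonempty_homologyIso P M i
  exact P.prop_of_iso e (M.homology i).property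

omit [T.Additive] in
theorem quasiIso_of_map {M N : CochainComplex P.FullSubcategory ℤ} (φ : M ⟶ N)
    (h : QuasiIso ((Mι).map φ)) : QuasiIso φ := by
  haveI : P.ι.PreservesHomology := Functor.preservesHomologyOfExact _
  exact (quasiIso_map_iff_of_preservesHomology φ P.ι).1 h

variable [IsGrothendieckAbelian.{v} C]

include hT in
theorem exists_res (N : CochainComplex P.FullSubcategory ℤ) :
    ∃ (I : CochainComplex C ℤ) (s : (Mι).obj N ⟶ I), I.IsKInjective ∧ QuasiIso s ∧
      QuasiIso (cxε P T adj I) ∧ QuasiIso (cxAdj P T adj s) := by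
  obtain ⟨I, s, hI, hs, -, hinj⟩ := CohDer19.exists_mono_kInjective_resolution ((Mι).obj N)
  have hε := hT I hI hinj fun i => P.prop_of_iso (isoOfQuasiIsoAt s i) (prop_homology P N i)
  refine ⟨I, s, hI, hs, hε, quasiIso_of_map P _ ?_⟩
  haveI : QuasiIso ((Mι).map (cxAdj P T adj s) ≫ cxε P T adj I) := by
    rw [cxAdj_ε]; exact hs
  exact quasiIso_of_comp_right _ (cxε P T adj I)

variable [HasDerivedCategory.{w} C] [HasDerivedCategory.{w'} P.FullSubcategory]

open DerivedCategory

local notation "FF" => P.ι.mapDerivedCategory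

include hT in
theorem full_toDerived : (FF).Full := by
  refine ⟨fun {X Y} g => ?_⟩
  let M := Q.objPreimage X
  let N := Q.objPreimage Y
  let eM := Q.objObjPreimageIso X
  let eN := Q.objObjPreimageIso Y
  let a := P.ι.mapDerivedCategoryFactors.app M
  let b := P.ι.mapDerivedCategoryFactors.app N
  let g0 : Q.obj ((Mι).obj M) ⟶ Q.obj ((Mι).obj N) :=
    a.inv ≫ (FF).map eM.hom ≫ g ≫ (FF).map eN.inv ≫ b.hom
  obtain ⟨I, s, hI, hs, hε, hs'⟩ := exists_res P T adj hT N
  haveI := hI
  obtain ⟨u, hu⟩ := CohDer19.InjAmp.exists_lift (g0 ≫ Q.map s)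
  let u' := cxAdj P T adj u
  let s' := cxAdj P T adj s
  haveI : IsIso (Q.map s') := (isIso_Q_map_iff_quasiIso _ _).2 hs'
  haveI : IsIso (Q.map s) := (isIso_Q_map_iff_quasiIso _ _).2 hs
  refine ⟨eM.inv ≫ (Q.map u' ≫ inv (Q.map s')) ≫ eN.hom, ?_⟩
  have h1 : (FF).map (Q.map u') ≫ (P.ι.mapDerivedCategoryFactors.app ((MT).obj I)).hom ≫ Q.map (cxε P T adj I) =
      a.hom ≫ g0 ≫ Q.map s := by
    rw [Iso.app_hom, ← Category.assoc, P.ι.mapDerivedCategoryFactors_hom_naturality, Category.assoc,
      ← Functor.map_comp, cxAdj_ε, hu]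
    rfl
  have h2 : (FF).map (Q.map s') ≫ (P.ι.mapDerivedCategoryFactors.app ((MT).obj I)).hom ≫ Q.map (cxε P T adj I) =
      b.hom ≫ Q.map s := by
    rw [Iso.app_hom, ← Category.assoc, P.ι.mapDerivedCategoryFactors_hom_naturality, Category.assoc,
      ← Functor.map_comp, cxAdj_ε]
    rfl
  haveI : IsIso ((P.ι.mapDerivedCategoryFactors.app ((MT).obj I)).hom ≫ Q.map (cxε P T adj I)) :=
    haveI : IsIso (Q.map (cxε P T adj I)) := (isIso_Q_map_iff_quasiIso _ _).2 hε
    inferInstance
  have h3 : (FF).map (Q.map u' ≫ inv (Q.map s')) = a.hom ≫ g0 ≫ b.inv := by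
    rw [Functor.map_comp, Functor.map_inv, IsIso.comp_inv_eq,
      ← cancel_mono ((P.ι.mapDerivedCategoryFactors.app ((MT).obj I)).hom ≫ Q.map (cxε P T adj I)),
      h1]
    refine Eq.trans ?_ ((Category.assoc _ _ _).trans (congrArg (fun z => (a.hom ≫ g0 ≫ b.inv) ≫ z) h2)).symm
    simp only [Category.assoc, Iso.inv_hom_id_assoc]
  rw [Functor.map_comp, Functor.map_comp, h3]
  simp only [g0, Category.assoc, Iso.hom_inv_id_assoc, ← Functor.map_comp, Iso.inv_hom_id]
  rw [← Functor.map_comp_assoc, eM.inv_hom_id]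
  simp only [CategoryTheory.Functor.map_id, Category.id_comp, Category.comp_id]

include hT in
theorem eq_zero_of_map_eq_zero {M Y : CochainComplex P.FullSubcategory ℤ} (φ : M ⟶ Y)
    (h : Q.map ((Mι).map φ) = 0) : Q.map φ = 0 := by
  obtain ⟨I, r, hI, hr, hε, hr'⟩ := exists_res P T adj hT Y
  haveI := hI
  have h0 : Q.map ((Mι).map φ ≫ r) = 0 := by rw [Functor.map_comp, h, zero_comp]
  have h1 : (HomotopyCategory.quotient C (ComplexShape.up ℤ)).map ((Mι).map φ ≫ r) =
      (HomotopyCategory.quotient C (ComplexShape.up ℤ)).map 0 := by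
    apply (CochainComplex.IsKInjective.Qh_map_bijective _ I).1
    have e1 := (quotientCompQhIso C).hom.naturality ((Mι).map φ ≫ r)
    simp only [Functor.comp_map] at e1
    rw [← cancel_mono ((quotientCompQhIso C).hom.app I), e1, h0, comp_zero]
    simp
  obtain ⟨H⟩ := nonempty_homotopy_cxAdj P T adj _ (HomotopyCategory.homotopyOfEq _ _ h1)
  have h2 : φ ≫ cxAdj P T adj r = cxAdj P T adj ((Mι).map φ ≫ r) :=
    HomologicalComplex.Hom.ext (funext fun i => (adj.homEquiv_naturality_left (φ.f i) (r.f i)).symm)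
  haveI : IsIso (Q.map (cxAdj P T adj r)) := (isIso_Q_map_iff_quasiIso _ _).2 hr'
  rw [← cancel_mono (Q.map (cxAdj P T adj r)), zero_comp, ← Functor.map_comp, h2, Q_map_eq_of_homotopy _ H,
    Functor.map_zero]

include hT in
theorem faithful_toDerived : (FF).Faithful := by
  refine ⟨fun {X Y} f₁ f₂ h => sub_eq_zero.1 ?_⟩
  have hd : (FF).map (f₁ - f₂) = 0 := by rw [Functor.map_sub, h, sub_self]
  generalize f₁ - f₂ = f at hd
  let M := Q.objPreimage X
  let N := Q.objPreimage Y
  let eM := Q.objObjPreimageIso X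
  let eN := Q.objObjPreimageIso Y
  obtain ⟨Z, φ, σ, hσ, hf⟩ := left_fac (eM.hom ≫ f ≫ eN.inv)
  have hz : (FF).map (Q.map φ) = 0 := by
    have h1 : Q.map φ = (eM.hom ≫ f ≫ eN.inv) ≫ Q.map σ := by
      rw [hf, Category.assoc, IsIso.inv_hom_id, Category.comp_id]
    rw [h1, Functor.map_comp, Functor.map_comp, Functor.map_comp, hd]
    simp
  have hz' : Q.map ((Mι).map φ) = 0 := by
    rw [← cancel_epi (P.ι.mapDerivedCategoryFactors.hom.app M),
      ← P.ι.mapDerivedCategoryFactors_hom_naturality, hz, zero_comp, comp_zero]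
  have h0 := eq_zero_of_map_eq_zero P T adj hT φ hz'
  rw [h0, zero_comp] at hf
  rw [← cancel_epi eM.hom, ← cancel_mono eN.inv, Category.assoc, hf, comp_zero, zero_comp]

include hT in
theorem cohIn_iff (K : DerivedCategory C) : WSerre.cohIn P K ↔ (FF).essImage K := by
  constructor
  · intro hK
    let L := Q.objPreimage K
    let eL := Q.objObjPreimageIso K
    obtain ⟨I, i, hI, hi, -, hinj⟩ := CohDer19.exists_mono_kInjective_resolution L
    haveI : IsIso (Q.map i) := (isIso_Q_map_iff_quasiIso _ _).2 hi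
    have hε := hT I hI hinj fun n => P.prop_of_iso (isoOfQuasiIsoAt i n)
      (P.prop_of_iso (((homologyFunctor C n).mapIso eL).symm ≪≫ (homologyFunctorFactors C n).app L) (hK n))
    haveI : IsIso (Q.map (cxε P T adj I)) := (isIso_Q_map_iff_quasiIso _ _).2 hε
    exact ⟨Q.obj ((MT).obj I), ⟨P.ι.mapDerivedCategoryFactors.app _ ≪≫ asIso (Q.map (cxε P T adj I)) ≪≫
      (asIso (Q.map i)).symm ≪≫ eL⟩⟩
  · rintro ⟨X, ⟨e⟩⟩ n
    let M := Q.objPreimage X
    exact P.prop_of_iso ((homologyFunctorFactors C n).symm.app _ ≪≫ (homologyFunctor C n).mapIso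
      ((P.ι.mapDerivedCategoryFactors.app M).symm ≪≫ (FF).mapIso (Q.objObjPreimageIso X) ≪≫ e))
      (prop_homology P M n)

end GrothLib.TorSh20
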