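import Groth.Prelude.Def_SiteCmp
import Groth.Prelude.Def_WeakSerre
import Mathlib.CategoryTheory.Abelian.SerreClass.Basic
import Mathlib.CategoryTheory.Adjunction.Whiskering
import Mathlib.Algebra.Category.Grp.Adjunctions
import Mathlib.Algebra.FreeAbelianGroup.Finsupp
import Groth.Agent.Lib.TorSh20.Derived

/-!
# Torsion abelian sheaves
-/

set_option autoImplicit false
set_option maxHeartbeats 400000
set_option linter.style.haveILetI false
set_option linter.unusedSectionVars false

universe u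

open CategoryTheory CategoryTheory.Limits Opposite HomologicalComplex

namespace GrothLib.TorSh20

variable {C : Type u} [SmallCategory C] {J : GrothendieckTopology C}

theorem finOrder_of_map {A B : Type u} [AddCommGroup A] [AddCommGroup B] (f : A →+ B)
    (hf : Function.Injective f) {a : A} (h : IsOfFinAddOrder (f a)) : IsOfFinAddOrder a := by
  obtain ⟨n, hn, hna⟩ := isOfFinAddOrder_iff_nsmul_eq_zero.1 h
  exact isOfFinAddOrder_iff_nsmul_eq_zero.2 ⟨n, hn, hf (by rw [map_nsmul, hna, map_zero])⟩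

theorem free_eq_zero_of_nsmul {α : Type u} {n : ℕ} (hn : n ≠ 0) (x : FreeAbelianGroup α) (h : n • x = 0) :
    x = 0 := by
  refine (AddEquiv.map_eq_zero_iff (FreeAbelianGroup.equivFinsupp α)).1 ?_
  have h1 := congrArg (FreeAbelianGroup.equivFinsupp α) h
  rw [map_nsmul, map_zero] at h1
  exact (smul_eq_zero.1 h1).resolve_left hn

/-- The torsion sections. -/
def tSub (F : Sheaf J AddCommGrpCat.{u}) (U : C) : AddSubgroup (F.obj.obj (op U)) where
  carrier := {s | ∃ S ∈ J U, ∀ ⦃V : C⦄ (g : V ⟶ U), S g → IsOfFinAddOrder ((F.obj.map g.op).hom s)}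
  zero_mem' := ⟨⊤, J.top_mem U, fun V g _ => by rw [map_zero]; exact IsOfFinAddOrder.zero⟩
  add_mem' := by
    rintro s t ⟨S, hS, hs⟩ ⟨T, hT, ht⟩
    refine ⟨S ⊓ T, J.intersection_covering hS hT, fun V g hg => ?_⟩
    rw [map_add]
    exact (hs g hg.1).add (ht g hg.2)
  neg_mem' := by
    rintro s ⟨S, hS, hs⟩
    refine ⟨S, hS, fun V g hg => ?_⟩
    rw [map_neg]
    exact (hs g hg).neg

theorem map_mem_tSub (F : Sheaf J AddCommGrpCat.{u}) {U V : C} (f : V ⟶ U) {s : F.obj.obj (op U)}
    (hs : s ∈ tSub F U) : (F.obj.map f.op).hom s ∈ tSub F V := by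
  obtain ⟨S, hS, h⟩ := hs
  refine ⟨S.pullback f, J.pullback_stable f hS, fun W g hg => ?_⟩
  have e := h (g ≫ f) hg
  rw [op_comp, Functor.map_comp] at e
  exact e

theorem mem_tSub_of_local (F : Sheaf J AddCommGrpCat.{u}) {U : C} {s : F.obj.obj (op U)} {R : Sieve U}
    (hR : R ∈ J U) (h : ∀ ⦃V : C⦄ (g : V ⟶ U), R g → (F.obj.map g.op).hom s ∈ tSub F V) :
    s ∈ tSub F U := by
  choose S hS hSfin using h
  refine ⟨Sieve.bind R.arrows (fun V g hg => S g hg), J.bind_covering hR (fun V g hg => hS g hg),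
    fun W k hk => ?_⟩
  obtain ⟨V, g', g, hg, hg', rfl⟩ := hk
  have e := hSfin g hg g' hg'
  rw [op_comp, Functor.map_comp]
  exact e

/-- The presheaf of torsion sections. -/
def tPre (F : Sheaf J AddCommGrpCat.{u}) : Cᵒᵖ ⥤ AddCommGrpCat.{u} where
  obj U := AddCommGrpCat.of (tSub F U.unop)
  map {U V} f := AddCommGrpCat.ofHom
    { toFun := fun s => ⟨(F.obj.map f).hom s.1, map_mem_tSub F f.unop s.2⟩
      map_zero' := Subtype.ext (map_zero _)
      map_add' := fun s t => Subtype.ext (map_add _ _ _) }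
  map_id U := by ext s; exact ConcreteCategory.congr_hom (F.obj.map_id U) s.1
  map_comp f g := by ext s; exact ConcreteCategory.congr_hom (F.obj.map_comp f g) s.1

theorem isSheaf_tPre (F : Sheaf J AddCommGrpCat.{u}) : Presheaf.IsSheaf J (tPre F) := by
  rw [Presheaf.isSheaf_iff_isSheaf_forget J _ (forget AddCommGrpCat.{u}), isSheaf_iff_isSheaf_of_type]
  have hF := (isSheaf_iff_isSheaf_of_type J _).1
    ((Presheaf.isSheaf_iff_isSheaf_forget J _ (forget AddCommGrpCat.{u})).1 F.property)
  intro U R hR x hx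
  let y : Presieve.FamilyOfElements (F.obj ⋙ forget AddCommGrpCat.{u}) R.arrows :=
    fun V g hg => (x g hg).1
  have hy : y.Compatible := fun Y₁ Y₂ Z g₁ g₂ f₁ f₂ h₁ h₂ e =>
    congrArg Subtype.val (hx g₁ g₂ h₁ h₂ e)
  obtain ⟨s, hs, hu⟩ := hF R hR y hy
  refine ⟨⟨s, mem_tSub_of_local F hR fun V g hg => ?_⟩, fun V g hg => Subtype.ext (hs g hg),
    fun t ht => Subtype.ext (hu t.1 fun V g hg => congrArg Subtype.val (ht g hg))⟩
  have e : (F.obj.map g.op).hom s = (x g hg).1 := hs g hg
  rw [e]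
  exact (x g hg).2

/-- The torsion subsheaf. -/
def tObj (F : Sheaf J AddCommGrpCat.{u}) : Sheaf J AddCommGrpCat.{u} := ⟨tPre F, isSheaf_tPre F⟩

/-- Its inclusion. -/
def tInc (F : Sheaf J AddCommGrpCat.{u}) : tObj F ⟶ F :=
  ⟨{ app := fun U => AddCommGrpCat.ofHom (tSub F U.unop).subtype
     naturality := fun _ _ _ => rfl }⟩

theorem isTorsion_tObj (F : Sheaf J AddCommGrpCat.{u}) : SiteCmp.torsionSh J (tObj F) := by
  intro U s
  obtain ⟨S, hS, h⟩ := s.2
  refine ⟨S, hS, fun V g hg => ?_⟩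
  exact finOrder_of_map (tSub F V).subtype Subtype.val_injective (h g hg)

theorem app_mem_tSub {T F : Sheaf J AddCommGrpCat.{u}} (hT : SiteCmp.torsionSh J T) (f : T ⟶ F) (U : C)
    (s : T.obj.obj (op U)) : (f.hom.app (op U)).hom s ∈ tSub F U := by
  obtain ⟨S, hS, h⟩ := hT U s
  refine ⟨S, hS, fun V g hg => ?_⟩
  have e := ConcreteCategory.congr_hom (f.hom.naturality g.op) s
  exact e ▸ (f.hom.app (op V)).hom.isOfFinAddOrder (h g hg)

/-- Morphisms out of torsion sheaves factor through the torsion subsheaf. -/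
def tLift {T F : Sheaf J AddCommGrpCat.{u}} (hT : SiteCmp.torsionSh J T) (f : T ⟶ F) : T ⟶ tObj F :=
  ⟨{ app := fun U => AddCommGrpCat.ofHom
        ((f.hom.app U).hom.codRestrict (tSub F U.unop) fun s => app_mem_tSub hT f U.unop s)
     naturality := fun U V g => by
       ext s
       apply Subtype.ext
       exact ConcreteCategory.congr_hom (f.hom.naturality g) s }⟩

theorem tLift_inc {T F : Sheaf J AddCommGrpCat.{u}} (hT : SiteCmp.torsionSh J T) (f : T ⟶ F) :
    tLift hT f ≫ tInc F = f := rfl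

theorem app_tInc_injective (F : Sheaf J AddCommGrpCat.{u}) (U : Cᵒᵖ) :
    Function.Injective ((tInc F).hom.app U).hom := Subtype.val_injective

theorem hom_ext_inc {T F : Sheaf J AddCommGrpCat.{u}} (a b : T ⟶ tObj F) (h : a ≫ tInc F = b ≫ tInc F) :
    a = b := by
  ext U s
  exact app_tInc_injective F U (congrArg (fun k : T ⟶ F => (k.hom.app U).hom s) h)

instance mono_tInc (F : Sheaf J AddCommGrpCat.{u}) : Mono (tInc F) := ⟨fun a b h => hom_ext_inc a b h⟩

variable (J)

/-- The torsion functor. -/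
def tFun : Sheaf J AddCommGrpCat.{u} ⥤ (SiteCmp.torsionSh J).FullSubcategory :=
  (SiteCmp.torsionSh J).lift
    { obj := tObj
      map := fun {F G} f => tLift (isTorsion_tObj F) (tInc F ≫ f)
      map_id := fun F => hom_ext_inc _ _ rfl
      map_comp := fun _ _ => hom_ext_inc _ _ rfl }
    isTorsion_tObj

/-- The adjunction. -/
def tAdj : (SiteCmp.torsionSh J).ι ⊣ tFun J :=
  Adjunction.mkOfHomEquiv
    { homEquiv := fun T F =>
        { toFun := fun f => ObjectProperty.homMk (tLift T.property f)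
          invFun := fun g => g.hom ≫ tInc F
          left_inv := fun f => tLift_inc T.property f
          right_inv := fun g => ObjectProperty.hom_ext _ (hom_ext_inc _ _ rfl) }
      homEquiv_naturality_left_symm := fun _ _ => rfl
      homEquiv_naturality_right := fun _ _ => ObjectProperty.hom_ext _ (hom_ext_inc _ _ rfl) }

instance additive_tFun : (tFun J).Additive where
  map_add := fun {F G f g} => ObjectProperty.hom_ext _ (hom_ext_inc _ _ rfl)

variable {J}

theorem app_injective {F G : Sheaf J AddCommGrpCat.{u}} (f : F ⟶ G) [Mono f] (U : Cᵒᵖ) :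
    Function.Injective (f.hom.app U).hom := by
  haveI : Mono f.hom := (sheafToPresheaf J AddCommGrpCat.{u}).map_mono f
  exact (AddCommGrpCat.mono_iff_injective (f.hom.app U)).1 inferInstance

theorem app_nsmul {F G : Sheaf J AddCommGrpCat.{u}} (n : ℕ) (f : F ⟶ G) (U : Cᵒᵖ) (s : F.obj.obj U) :
    ((n • f).hom.app U).hom s = n • (f.hom.app U).hom s := by
  induction n with
  | zero => rw [zero_smul, zero_smul]; rfl
  | succ n ih =>
    rw [succ_nsmul, succ_nsmul, ← ih]
    rfl

theorem eq_zero_of_torsion {F : Sheaf J AddCommGrpCat.{u}} (hF : SiteCmp.torsionSh J F)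
    (h : ∀ n : ℕ, 0 < n → Mono (n • 𝟙 F)) : IsZero F := by
  rw [IsZero.iff_id_eq_zero]
  ext U s
  obtain ⟨S, hS, hfin⟩ := hF U.unop s
  have hsep := ((isSheaf_iff_isSheaf_of_type J _).1
    ((Presheaf.isSheaf_iff_isSheaf_forget J _ (forget AddCommGrpCat.{u})).1 F.property)).isSeparated
  refine (hsep S hS).ext fun V g hg => ?_
  show (F.obj.map g.op).hom s = (F.obj.map g.op).hom 0
  rw [map_zero]
  obtain ⟨n, hn, hns⟩ := (isOfFinAddOrder_iff_nsmul_eq_zero).1 (hfin g hg)
  haveI := h n hn
  apply app_injective (n • 𝟙 F) (op V)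
  rw [map_zero, app_nsmul]
  exact hns

/-- The quotient by the torsion subsheaf is torsion free. -/
theorem mono_nsmul_cokernel (F : Sheaf J AddCommGrpCat.{u}) (n : ℕ) (hn : 0 < n) :
    Mono (n • 𝟙 (cokernel (tInc F))) := by
  let π := cokernel.π (tInc F)
  have hP : SiteCmp.torsionSh J (kernel (n • π)) := by
    intro U s
    let k := kernel.ι (n • π)
    have hk : (n • k) ≫ π = 0 := by
      rw [Preadditive.nsmul_comp, ← Preadditive.comp_nsmul]
      exact kernel.condition _
    obtain ⟨y, hy⟩ : ∃ y, y ≫ tInc F = n • k :=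
      ⟨Abelian.monoLift (tInc F) (n • k) hk, Abelian.monoLift_comp _ _ _⟩
    have hmem : n • (k.hom.app (op U)).hom s ∈ tSub F U := by
      rw [← app_nsmul, ← hy]
      exact ((y.hom.app (op U)).hom s).2
    obtain ⟨S, hS, h⟩ := hmem
    refine ⟨S, hS, fun V g hg => ?_⟩
    have e := h g hg
    rw [map_nsmul] at e
    have e' := e.of_nsmul hn.ne'
    have nat := ConcreteCategory.congr_hom (k.hom.naturality g.op) s
    exact finOrder_of_map (k.hom.app (op V)).hom (app_injective k (op V))
      (nat ▸ e' : IsOfFinAddOrder ((k.hom.app (op V)).hom (((kernel (n • π)).obj.map g.op).hom s)))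
  have h0 : kernel.ι (n • π) ≫ π = 0 := by
    rw [← tLift_inc hP (kernel.ι (n • π)), Category.assoc, cokernel.condition, comp_zero]
  refine Preadditive.mono_of_cancel_zero _ fun {T} g hg => ?_
  have hgn : n • g = 0 := by rwa [Preadditive.comp_nsmul, Category.comp_id] at hg
  have hpb : IsPullback (pullback.fst π g) (pullback.snd π g) π g := IsPullback.of_hasPullback π g
  haveI : Epi (pullback.snd π g) := inferInstance
  rw [← cancel_epi (pullback.snd π g), comp_zero, ← pullback.condition]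
  have hh : pullback.fst π g ≫ (n • π) = 0 := by
    rw [Preadditive.comp_nsmul, pullback.condition, ← Preadditive.comp_nsmul, hgn, comp_zero]
  rw [← kernel.lift_ι _ _ hh, Category.assoc, h0, comp_zero]

/-- Sections of an injective abelian sheaf are divisible. -/
theorem epi_nsmul_of_injective (I : Sheaf J AddCommGrpCat.{u}) [Injective I] (n : ℕ) (hn : 0 < n) :
    Epi (n • 𝟙 I) := by
  haveI : Injective ((sheafToPresheaf J AddCommGrpCat.{u}).obj I) :=
    Injective.injective_of_adjoint (sheafificationAdjunction J AddCommGrpCat.{u}) I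
  let Φ := (AddCommGrpCat.adj.{u}).whiskerRight Cᵒᵖ
  have hsurj : ∀ (U : Cᵒᵖ) (s : I.obj.obj U), ∃ t, n • t = s := by
    intro U s
    let P : Cᵒᵖ ⥤ AddCommGrpCat.{u} := yoneda.obj U.unop ⋙ AddCommGrpCat.free
    have hm : Mono (n • 𝟙 P) := by
      haveI : ∀ V, Mono ((n • 𝟙 P).app V) := fun V => by
        rw [AddCommGrpCat.mono_iff_injective, NatTrans.app_nsmul]
        exact (injective_iff_map_eq_zero _).2 fun x hx => free_eq_zero_of_nsmul hn.ne' x hx
      exact NatTrans.mono_of_mono_app _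
    haveI := hm
    let f : P ⟶ I.obj := (Φ.homEquiv (yoneda.obj U.unop) I.obj).symm
      ((yonedaEquiv (X := U.unop) (F := I.obj ⋙ forget AddCommGrpCat.{u})).symm s)
    let g : P ⟶ I.obj := Injective.factorThru (J := (sheafToPresheaf J AddCommGrpCat.{u}).obj I) f (n • 𝟙 P)
    refine ⟨yonedaEquiv (Φ.homEquiv _ _ g), ?_⟩
    have hg : (n • g : P ⟶ I.obj) = f := by
      have := Injective.comp_factorThru (J := (sheafToPresheaf J AddCommGrpCat.{u}).obj I) f (n • 𝟙 P)
      rwa [Preadditive.nsmul_comp, Category.id_comp] at this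
    have hs : yonedaEquiv (Φ.homEquiv (yoneda.obj U.unop) I.obj f) = s := by
      simp only [f, Equiv.apply_symm_apply]
    rw [← hs, ← hg]
    rfl
  refine Preadditive.epi_of_cancel_zero _ fun {T} g hg => ?_
  ext U s
  obtain ⟨t, rfl⟩ := hsurj U s
  have := congrArg (fun k : I ⟶ T => (k.hom.app U).hom t) hg
  simp only [Preadditive.nsmul_comp, Category.id_comp] at this
  rw [app_nsmul] at this
  rw [map_nsmul]
  exact this

variable [(SiteCmp.torsionSh J).IsSerreClass]

theorem prop_homology_of_prop (S : ShortComplex (Sheaf J AddCommGrpCat.{u})) (h : SiteCmp.torsionSh J S.X₂) :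
    SiteCmp.torsionSh J S.homology :=
  (SiteCmp.torsionSh J).prop_of_epi S.homologyπ ((SiteCmp.torsionSh J).prop_of_mono S.iCycles h)

/-- Torsion sections of a complex of injectives with torsion cohomology. -/
theorem quasiIso_ε [(SiteCmp.torsionSh J).ι.Additive] (I : CochainComplex (Sheaf J AddCommGrpCat.{u}) ℤ)
    (hI : ∀ i, Injective (I.X i)) (hH : ∀ i, SiteCmp.torsionSh J (I.homology i)) :
    QuasiIso (cxε (SiteCmp.torsionSh J) (tFun J) (tAdj J) I) := by
  let ε := cxε (SiteCmp.torsionSh J) (tFun J) (tAdj J) I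
  have hεi : ∀ i, ε.f i = tInc (I.X i) := fun i => Category.id_comp _
  haveI : ∀ i, Mono (ε.f i) := fun i => by rw [hεi]; exact mono_tInc _
  haveI : Mono ε := HomologicalComplex.mono_of_mono_f _ inferInstance
  let S := ShortComplex.mk ε (cokernel.π ε) (cokernel.condition ε)
  have hS : S.ShortExact :=
    { exact := ShortComplex.exact_of_g_is_cokernel S (cokernelIsCokernel ε) }
  have hQ : ∀ i, S.X₃.ExactAt i := by
    intro i
    rw [exactAt_iff_isZero_homology]
    refine eq_zero_of_torsion ?_ fun n hn => ?_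
    · refine (SiteCmp.torsionSh J).prop_X₂_of_exact (hS.homology_exact₃ i (i + 1) (by simp)) (hH i) ?_
      exact prop_homology_of_prop _ (isTorsion_tObj (I.X (i + 1)))
    · haveI : ∀ j, IsIso ((n • 𝟙 S.X₃).f j) := fun j => by
        let π : I.X j ⟶ S.X₃.X j := (cokernel.π ε).f j
        let e : cokernel (tInc (I.X j)) ≅ S.X₃.X j :=
          cokernelIsoOfEq (hεi j).symm ≪≫
            (PreservesCokernel.iso (HomologicalComplex.eval _ _ j) ε).symm
        haveI hm : Mono (n • 𝟙 (S.X₃.X j)) := by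
          have h := mono_nsmul_cokernel (I.X j) n hn
          have he : n • 𝟙 (S.X₃.X j) = e.inv ≫ (n • 𝟙 (cokernel (tInc (I.X j)))) ≫ e.hom := by
            simp
          rw [he]
          exact mono_comp _ _
        haveI he : Epi (n • 𝟙 (S.X₃.X j)) := by
          haveI := hI j
          haveI := epi_nsmul_of_injective (I.X j) n hn
          haveI : Epi π := inferInstanceAs (Epi ((HomologicalComplex.eval _ _ j).map (cokernel.π ε)))
          have hc : π ≫ (n • 𝟙 (S.X₃.X j)) = (n • 𝟙 (I.X j)) ≫ π := by simp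
          haveI : Epi (π ≫ (n • 𝟙 (S.X₃.X j))) := hc ▸ epi_comp _ _
          exact epi_of_epi π _
        have : (n • 𝟙 S.X₃).f j = n • 𝟙 (S.X₃.X j) :=
          map_nsmul (AddMonoidHom.mk' (fun φ : S.X₃ ⟶ S.X₃ => φ.f j) fun _ _ => rfl) n (𝟙 S.X₃)
        rw [this]
        exact isIso_of_mono_of_epi _
      haveI : IsIso (n • 𝟙 S.X₃) := HomologicalComplex.Hom.isIso_of_components _
      have : n • 𝟙 (S.X₃.homology i) = (homologyFunctor _ _ i).map (n • 𝟙 S.X₃) := by
        rw [Functor.map_nsmul, CategoryTheory.Functor.map_id]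
        rfl
      rw [this]
      have hiso : IsIso ((homologyFunctor _ _ i).map (n • 𝟙 S.X₃)) := Functor.map_isIso _ _
      exact @IsIso.mono_of_iso _ _ _ _ _ hiso
  refine ⟨fun i => ?_⟩
  rw [quasiIsoAt_iff_isIso_homologyMap]
  haveI : Mono (homologyMap S.f i) :=
    (hS.homology_exact₁ (i - 1) i (by simp)).mono_g ((exactAt_iff_isZero_homology _ _).1 (hQ (i - 1))
      |>.eq_of_src _ _)
  haveI : Epi (homologyMap S.f i) :=
    (hS.homology_exact₂ i).epi_f ((exactAt_iff_isZero_homology _ _).1 (hQ i) |>.eq_of_tgt _ _)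
  exact isIso_of_mono_of_epi (homologyMap S.f i)

end GrothLib.TorSh20
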